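import Groth.Agent.DimFormula.Fibre
import Groth.Agent.DimFormula.Scheme
import Groth.Agent.FibDim.RelDim
import Mathlib.AlgebraicGeometry.Morphisms.Preimmersion

/-!
# Fibre dimensions over a Noetherian local ring from those at the generic points
-/

set_option autoImplicit false
set_option linter.style.haveILetI false
set_option backward.isDefEq.respectTransparency.types false
set_option backward.isDefEq.respectTransparency false

universe u

open CategoryTheory CategoryTheory.Limits AlgebraicGeometry Topology TopologicalSpace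

namespace Groth.Agent.FibBound5

open Groth.Agent

theorem closure_mem_irreducibleComponents {X : Scheme.{u}} {η : X} (h : ∀ z, z ⤳ η → z = η) :
    closure ({η} : Set X) ∈ irreducibleComponents (X : Type u) := by
  refine ⟨isIrreducible_singleton.closure, fun t ht hle => ?_⟩
  obtain ⟨g, hg⟩ : ∃ g, IsGenericPoint g (closure t) := QuasiSober.sober ht.closure isClosed_closure
  have h1 : g ⤳ η := hg.specializes (subset_closure (hle (subset_closure rfl)))
  obtain rfl := h g h1
  exact subset_closure.trans hg.def.ge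

/-- Codimension plus fibre dimension, over a locally Noetherian base. -/
theorem exists_bound {X Y : Scheme.{u}} (f : X ⟶ Y) [LocallyOfFiniteType f] [IsLocallyNoetherian Y] (x : X) :
    ∃ (η : X) (a : ℕ), η ⤳ x ∧ (∀ z, z ⤳ η → z = η) ∧ FlatMor.fibreDimAt f η = ((a : ℕ∞) : WithBot ℕ∞) ∧
      ((∃ m : ℕ, FlatMor.fibreDimAt f x = ((m : ℕ∞) : WithBot ℕ∞) ∧
        ((f η = f x ∧ m = a) ∨ m + 1 ≤ a + DimFormula.codim (f x)))) := by
  haveI := LocallyOfFiniteType.isLocallyNoetherian f
  obtain ⟨z, hz, hfz, hfm, he⟩ := FibDim.exists_fibMax_generization f x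
  obtain ⟨η, hη, hmax, -⟩ := DimFormula.exists_maximal_cd_eq_codim z
  refine ⟨η, FibDim.rd f η, hη.trans hz, hmax,
    FibDim.fibreDimAt_eq_rd f (FibDim.fibMax_of_maximal f hmax), FibDim.rd f z, he, ?_⟩
  by_cases hne : f η = f x
  · refine Or.inl ⟨hne, ?_⟩
    rw [hfm η hη (hne.trans hfz.symm)]
  · refine Or.inr ?_
    have h1 := (DimFormula.cd_formula f hη).1
    have h2 := DimFormula.cd_le_codim (hη.map f.continuous)
    rw [hfz] at h1 h2
    have h3 : DimFormula.cd η z ≠ 0 := fun h0 => hne (by rw [(DimFormula.cd_eq_zero_iff hη).1 h0, hfz])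
    omega

/-- The same over a base whose stalk at the image is Noetherian. -/
theorem exists_bound_stalk {X Y : Scheme.{u}} (f : X ⟶ Y) [LocallyOfFiniteType f] (x : X)
    [IsNoetherianRing (Y.presheaf.stalk (f x))] :
    ∃ (η : X) (a c : ℕ), η ⤳ x ∧ (∀ z, z ⤳ η → z = η) ∧ FlatMor.fibreDimAt f η = ((a : ℕ∞) : WithBot ℕ∞) ∧
      ringKrullDim (Y.presheaf.stalk (f x)) = ((c : ℕ∞) : WithBot ℕ∞) ∧
      ((∃ m : ℕ, FlatMor.fibreDimAt f x = ((m : ℕ∞) : WithBot ℕ∞) ∧
        ((f η = f x ∧ m = a) ∨ m + 1 ≤ a + c))) := by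
  let g := Y.fromSpecStalk (f x)
  let p := pullback.fst f g
  let q := pullback.snd f g
  have hg : g (IsLocalRing.closedPoint (Y.presheaf.stalk (f x))) = f x := Scheme.fromSpecStalk_closedPoint
  obtain ⟨x', hpx, hqx⟩ := Scheme.Pullback.exists_preimage_pullback (f := f) (g := g) x
    (IsLocalRing.closedPoint (Y.presheaf.stalk (f x))) hg.symm
  haveI : IsPreimmersion p := MorphismProperty.pullback_fst _ _ inferInstance
  haveI : LocallyOfFiniteType q := MorphismProperty.pullback_snd _ _ inferInstance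
  obtain ⟨η', a, hη, hmax, ha, m, hm, hcase⟩ := exists_bound q x'
  have hw : ∀ w, f (p w) = g (q w) := fun w => by
    show (p ≫ f) w = (q ≫ g) w
    rw [pullback.condition]
  have hbc : ∀ w, FlatMor.fibreDimAt q w = FlatMor.fibreDimAt f (p w) := fun w =>
    FibDim.fibreDimAt_baseChange (IsPullback.of_hasPullback f g) w
  have hc : ringKrullDim (Y.presheaf.stalk (f x)) =
      (((DimFormula.codim (q x') : ℕ) : ℕ∞) : WithBot ℕ∞) := by
    rw [show q x' = (IsLocalRing.closedPoint (Y.presheaf.stalk (f x)) : Spec (Y.presheaf.stalk (f x))) from hqx]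
    refine Eq.trans ?_ (DimFormula.ringKrullDim_stalk _)
    exact (ringKrullDim_eq_of_ringEquiv (stalkClosedPointIso (Y.presheaf.stalk (f x))).commRingCatIsoToRingEquiv).symm
  have hp : p η' ⤳ x := by
    have := hη.map p.continuous
    exact this.trans (specializes_of_eq hpx)
  refine ⟨p η', a, DimFormula.codim (q x'), hp, fun z hz => ?_, (hbc η').symm.trans ha,
    hc, m, ?_, ?_⟩
  · have h1 : f z ⤳ f x := (hz.trans hp).map f.continuous
    obtain ⟨z', rfl⟩ : z ∈ Set.range p := by
      rw [Scheme.Pullback.range_fst]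
      show f z ∈ Set.range g
      rw [Scheme.range_fromSpecStalk]
      exact h1
    rw [hmax z' (p.isEmbedding.isInducing.specializes_iff.1 hz)]
  · have := (hbc x').symm.trans hm
    rwa [show p x' = x from hpx] at this
  · rcases hcase with ⟨h1, h2⟩ | h
    · exact Or.inl ⟨by rw [hw, h1, hqx, hg], h2⟩
    · exact Or.inr h

end Groth.Agent.FibBound5
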